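import Cfsg.Agent.H141.Ux.Stmts
import Cfsg.Agent.H24.Bs.GenSp
import Cfsg.Agent.LieClassical.OrthFinite

/-!
# UX (S5716), UF2: `Ω(Q) ≤ H ≤ Sp(V)`, characteristic two (helper767)

If `g ∈ H` does not fix `Q`, the Siegel elements of `Q` and of `Q ∘ g` differ by transvections.
-/

set_option autoImplicit false

namespace Cfsg.Agent.H767.Ux

open Module QuadraticMap Cfsg.Agent.H847.Bs Cfsg.Agent.LieClassical.OrthCore
open Cfsg.Agent.LieClassical.OrthTrans Cfsg.Agent.LieClassical.OrthFinite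
open Cfsg.Agent.H24.Bs

section

variable {F V : Type*} [Field F] [AddCommGroup V] [Module F V] {Φ : Frm F V} {Q : QuadraticForm F V}
  {H : Subgroup (V ≃ₗ[F] V)} {g : V ≃ₗ[F] V}

/-- the defect -/
def df (Q : QuadraticForm F V) (g : V ≃ₗ[F] V) (v : V) : F := Q (g v) - Q v

theorem df_add (hg : g ∈ Φ.Iso) (hpol : ∀ u v, polar Q u v = Φ.B u v) (v w : V) :
    df Q g (v + w) = df Q g v + df Q g w := by
  have h1 : polar Q (g v) (g w) = polar Q v w := by rw [hpol, hpol, hg.1]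
  unfold df
  rw [map_add, Q_add, Q_add, h1]
  ring

theorem df_smul (a : F) (v : V) : df Q g (a • v) = a ^ 2 * df Q g v := by
  unfold df
  rw [map_smul, QuadraticMap.map_smul, QuadraticMap.map_smul, smul_eq_mul, smul_eq_mul]
  ring

theorem exists_tv (hΦ : IsSp Φ) (hH : H ≤ Φ.Iso) (hpol : ∀ u v, polar Q u v = Φ.B u v) (hE : E Q ≤ H)
    (hg : g ∈ H) {u w : V} (hu : Q u = 0) (hf : df Q g u = 0) (hw : Φ.B u w = 0) :
    ∃ t ∈ H, ∀ x, t x = x + (- df Q g w * Φ.B u x) • u := by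
  have hgI := hH hg
  have hgu : Q (g u) = 0 := by
    have h : Q (g u) - Q u = 0 := hf
    rw [hu, sub_zero] at h
    exact h
  have hw1 : polar Q u w = 0 := by rw [hpol, hw]
  have hw2 : polar Q (g u) (g w) = 0 := by rw [hpol, hgI.1, hw]
  let S := siegel Q u w hu hw1
  let S' := siegel Q (g u) (g w) hgu hw2
  have hS : S ∈ H := hE (siegel_mem_E hu hw1)
  have hS' : S' ∈ H := hE (siegel_mem_E hgu hw2)
  have e1 : ∀ x, S x = x + Φ.B u x • w - Φ.B w x • u - (Q w * Φ.B u x) • u := by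
    intro x
    rw [siegel_apply, hpol, hpol]
  have e2 : ∀ x, S' (g x) = g (x + Φ.B u x • w - Φ.B w x • u - (Q (g w) * Φ.B u x) • u) := by
    intro x
    rw [siegel_apply, hpol, hpol, hgI.1, hgI.1, map_sub, map_sub, map_add, map_smul, map_smul, map_smul]
  have hwu : Φ.B w u = 0 := by rw [B_swap hΦ, hw, neg_zero]
  have e3 : S u = u := by
    rw [e1, hΦ.alt, hwu]
    simp
  refine ⟨S⁻¹ * (g⁻¹ * S' * g), H.mul_mem (H.inv_mem hS) (H.mul_mem (H.mul_mem (H.inv_mem hg) hS') hg), fun x => ?_⟩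
  have e4 : S (x + (- df Q g w * Φ.B u x) • u) = (g⁻¹ * S' * g) x := by
    have e5 : (g⁻¹ * S' * g) x = g⁻¹ (S' (g x)) := rfl
    have e6 : ∀ y, g⁻¹ (g y) = y := fun y => g.symm_apply_apply y
    rw [e5, e2, e6, map_add, map_smul, e3, e1]
    unfold df
    module
  have e7 : (S⁻¹ * (g⁻¹ * S' * g)) x = S⁻¹ ((g⁻¹ * S' * g) x) := rfl
  rw [e7, ← e4]
  exact S.symm_apply_apply _

variable [Finite F] [FiniteDimensional F V]

omit [FiniteDimensional F V] in
theorem cen_of (hΦ : IsSp Φ) (h2 : (2 : F) = 0) (hH : H ≤ Φ.Iso) (hpol : ∀ u v, polar Q u v = Φ.B u v) (hE : E Q ≤ H)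
    (hg : g ∈ H) {u w : V} (hu : Q u = 0) (hf : df Q g u = 0) (hw : Φ.B u w = 0) (hfw : df Q g w ≠ 0) :
    Cen Φ H u := by
  intro a
  have hchar : ringChar F = 2 := by
    have : CharP F 2 := CharTwo.of_one_ne_zero_of_two_eq_zero one_ne_zero h2
    exact ringChar.eq F 2
  have := Fintype.ofFinite F
  obtain ⟨l, hl⟩ := FiniteField.isSquare_of_char_two hchar (- a / df Q g w)
  obtain ⟨t, ht, h⟩ := exists_tv hΦ hH hpol hE hg hu hf (w := l • w) (by rw [B_smul_right hΦ, hw, mul_zero])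
  refine ⟨t, ht, fun x => ?_⟩
  rw [h, df_smul]
  have h3 : - (l ^ 2 * df Q g w) = a := by
    rw [pow_two, ← hl]
    field_simp
  rw [h3]

theorem exists_good (hΦ : IsSp Φ) (h2 : (2 : F) = 0) (hd : 5 ≤ finrank F V) (hgI : g ∈ Φ.Iso)
    (hpol : ∀ u v, polar Q u v = Φ.B u v) {v₀ : V} (hv₀ : df Q g v₀ ≠ 0) :
    ∃ u w, u ≠ 0 ∧ Q u = 0 ∧ df Q g u = 0 ∧ Φ.B u w = 0 ∧ df Q g w ≠ 0 := by
  have hchar : ringChar F = 2 := by
    have : CharP F 2 := CharTwo.of_one_ne_zero_of_two_eq_zero one_ne_zero h2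
    exact ringChar.eq F 2
  have := Fintype.ofFinite F
  have hnd : Nondeg Q := fun x hx => hΦ.nd x fun y => by rw [← hpol]; exact hx y
  let K : Submodule F V :=
    { carrier := {v | df Q g v = 0}
      add_mem' := by
        intro v w hv hw
        change df Q g (v + w) = 0
        rw [df_add hgI hpol, show df Q g v = 0 from hv, show df Q g w = 0 from hw, add_zero]
      zero_mem' := by
        change df Q g 0 = 0
        unfold df
        rw [map_zero, sub_self]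
      smul_mem' := by
        intro a v hv
        change df Q g (a • v) = 0
        rw [df_smul, show df Q g v = 0 from hv, mul_zero] }
  have hK : K ⊔ F ∙ v₀ = ⊤ := by
    rw [eq_top_iff]
    intro w _
    obtain ⟨l, hl⟩ := FiniteField.isSquare_of_char_two hchar (- df Q g w / df Q g v₀)
    have h1 : w + l • v₀ ∈ K := by
      change df Q g (w + l • v₀) = 0
      rw [df_add hgI hpol, df_smul, pow_two, ← hl]
      field_simp
      ring
    have h3 : w = (w + l • v₀) + (-l) • v₀ := by module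
    rw [h3]
    exact Submodule.add_mem_sup h1 (Submodule.smul_mem _ _ (Submodule.mem_span_singleton_self v₀))
  have hKd : finrank F V ≤ finrank F K + 1 := by
    have h1 := Submodule.finrank_add_le_finrank_add_finrank K (F ∙ v₀)
    rw [hK, finrank_top] at h1
    have h3 : v₀ ≠ 0 := by
      rintro rfl
      apply hv₀
      unfold df
      rw [map_zero, sub_self]
    rwa [finrank_span_singleton h3] at h1
  obtain ⟨u₁, hu₁K, hu₁0, hu₁⟩ := exists_sing_mem (Q := Q) K (by omega)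
  by_cases hex : ∃ w, Φ.B u₁ w = 0 ∧ df Q g w ≠ 0
  · obtain ⟨w, hw, hfw⟩ := hex
    exact ⟨u₁, w, hu₁0, hu₁, hu₁K, hw, hfw⟩
  · push Not at hex
    obtain ⟨y, hy⟩ := exists_hyp hnd hu₁ hu₁0
    have hfy : df Q g y ≠ 0 := by
      intro h
      apply hv₀
      have h1 : v₀ = (v₀ - Φ.B u₁ v₀ • y) + Φ.B u₁ v₀ • y := by module
      have h3 : Φ.B u₁ y = 1 := by rw [← hpol]; exact hy.pair
      have h4 : df Q g (v₀ - Φ.B u₁ v₀ • y) = 0 := by
        apply hex
        rw [sub_eq_add_neg, Φ.add_right, B_neg_right hΦ, B_smul_right hΦ, h3, mul_one, add_neg_cancel]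
      rw [h1, df_add hgI hpol, h4, df_smul, h, mul_zero, add_zero]
    obtain ⟨u₂, hu₂0, hu₂, hp⟩ := exists_sing_perp (Q := Q) ![u₁, y] (by omega)
    have h1 : Φ.B u₁ u₂ = 0 := by rw [← hpol]; exact hp 0
    have h3 : Φ.B y u₂ = 0 := by rw [← hpol]; exact hp 1
    exact ⟨u₂, y, hu₂0, hu₂, hex u₂ h1, by rw [B_swap hΦ, h3, neg_zero], hfy⟩

theorem dye (hΦ : IsSp Φ) (h2 : (2 : F) = 0) (hd : 5 ≤ finrank F V) (hH : H ≤ Φ.Iso)
    (hpol : ∀ u v, polar Q u v = Φ.B u v) (hE : E Q ≤ H) :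
    (∀ g ∈ H, ∀ v, Q (g v) = Q v) ∨ H = Φ.Iso := by
  by_cases hfix : ∀ g ∈ H, ∀ v, Q (g v) = Q v
  · exact Or.inl hfix
  right
  push Not at hfix
  obtain ⟨g, hg, v₀, hv₀⟩ := hfix
  have hnd : Nondeg Q := fun x hx => hΦ.nd x fun y => by rw [← hpol]; exact hx y
  have hG : Good Q := good_of_finite hnd hd
  obtain ⟨u, w, hu0, hu, hfu, hw, hfw⟩ := exists_good hΦ h2 hd (hH hg) hpol (v₀ := v₀) (sub_ne_zero.2 hv₀)
  have hcu : Cen Φ H u := cen_of hΦ h2 hH hpol hE hg hu hfu hw hfw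
  have hsing : ∀ x, Q x = 0 → Cen Φ H x := by
    intro x hx
    by_cases hx0 : x = 0
    · rw [hx0]; exact cen_zero
    · obtain ⟨h, hh, rfl⟩ := hG.trans_sing hu hx hu0 hx0
      exact hcu.map hH (hE hh)
  have hall : ∀ x, Cen Φ H x := by
    intro x
    by_cases hx0 : x = 0
    · rw [hx0]; exact cen_zero
    obtain ⟨a, b, hab⟩ := hG.exists_hyp
    obtain ⟨s, hs, hsx⟩ := exists_sing_polar_one hnd hab hx0
    obtain ⟨t, ht, h⟩ := hsing s hs (- Q x)
    have h1 : Φ.B s x = 1 := by rw [← hpol]; exact hsx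
    have h3 : Q (t x) = 0 := by
      rw [h, h1, mul_one, Q_add, QuadraticMap.map_smul, hs, smul_zero, polar_smul_right, polar_comm, hsx, smul_eq_mul]
      ring
    have h4 := (hsing _ h3).map hH (H.inv_mem ht)
    have h5 : t⁻¹ (t x) = x := t.symm_apply_apply x
    rwa [h5] at h4
  refine le_antisymm hH fun k hk => ?_
  exact Cfsg.Agent.H743.McL.mem_of_isometry (bil hΦ) (bil_alt hΦ) (fun x h => hΦ.nd x h) H (fun a c => hall a c) k hk.1

end

/-- **UF2.** -/
theorem uf2 : Cfsg.Agent.H141.Ux.UF2 := by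
  intro F V _ _ _ _ _ Φ Q H hΦ h2 hd hH hpol hE
  exact dye hΦ h2 (by omega) hH hpol hE

end Cfsg.Agent.H767.Ux
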